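import Mathlib

/-!
# Finite decompositions into copies of a unit object, and the induced self-adjunctions (helper5)

For an additive bifunctor `T` with a right unit `U` (`T(-, U) ≅ 𝟭`), an object `P` which is a
direct sum of `n` copies of `U` gives a functor `T(-, P)` which is (left and right) adjoint to
`T(-, Q)` for any other such `Q`; maps `P ⟶ P'` correspond to transposed maps.
-/
set_option autoImplicit false
set_option linter.unusedSectionVars false
set_option linter.unusedVariables false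
universe u
open CategoryTheory CategoryTheory.Limits

namespace Groth.Agent.Lib.Helper5.Dual

variable {A : Type*} [Category A] [Preadditive A]

/-- a decomposition of `P` as a direct sum of `n` copies of `U` -/
structure Decomp (U P : A) (n : ℕ) where
  /-- inclusions -/
  ι : Fin n → (U ⟶ P)
  /-- projections -/
  π : Fin n → (P ⟶ U)
  ι_π_self : ∀ i, ι i ≫ π i = 𝟙 U
  ι_π_ne : ∀ i j, i ≠ j → ι i ≫ π j = 0
  sum : ∑ i, π i ≫ ι i = 𝟙 P

namespace Decomp

variable {U P P' P'' Q Q' : A} {n n' n'' : ℕ}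

/-- transport along an isomorphism -/
def trans (d : Decomp U P n) (e : P ≅ P') : Decomp U P' n where
  ι i := d.ι i ≫ e.hom
  π i := e.inv ≫ d.π i
  ι_π_self i := by simp [d.ι_π_self]
  ι_π_ne i j h := by simp [d.ι_π_ne i j h]
  sum := by
    have h : ∀ i : Fin n, (e.inv ≫ d.π i) ≫ d.ι i ≫ e.hom = e.inv ≫ (d.π i ≫ d.ι i) ≫ e.hom := by
      intro i; simp
    rw [Finset.sum_congr rfl (fun i _ => h i), ← Preadditive.comp_sum, ← Preadditive.sum_comp,
      d.sum]
    simp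

lemma comp_self_left (d : Decomp U P n) {Y : A} (a : P ⟶ Y) :
    ∑ i, d.π i ≫ d.ι i ≫ a = a := by
  have h : ∀ i : Fin n, d.π i ≫ d.ι i ≫ a = (d.π i ≫ d.ι i) ≫ a := fun i => by simp
  rw [Finset.sum_congr rfl (fun i _ => h i), ← Preadditive.sum_comp, d.sum, Category.id_comp]

lemma comp_self_right (d : Decomp U P n) {Y : A} (a : Y ⟶ P) :
    ∑ i, a ≫ d.π i ≫ d.ι i = a := by
  rw [← Preadditive.comp_sum, d.sum, Category.comp_id]

lemma ι_π (d : Decomp U P n) [DecidableEq (Fin n)] (i j : Fin n) :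
    d.ι i ≫ d.π j = if i = j then 𝟙 U else 0 := by
  by_cases h : i = j
  · subst h; simp [d.ι_π_self]
  · simp [h, d.ι_π_ne i j h]

lemma expand (d : Decomp U P n) (d' : Decomp U P' n') (a : P ⟶ P') :
    a = ∑ i, ∑ j, d.π i ≫ (d.ι i ≫ a ≫ d'.π j) ≫ d'.ι j := by
  have h1 : ∀ i : Fin n, ∑ j, d.π i ≫ (d.ι i ≫ a ≫ d'.π j) ≫ d'.ι j = d.π i ≫ d.ι i ≫ a := by
    intro i
    have h2 : ∀ j : Fin n', d.π i ≫ (d.ι i ≫ a ≫ d'.π j) ≫ d'.ι j =
        (d.π i ≫ d.ι i ≫ a) ≫ d'.π j ≫ d'.ι j := fun j => by simp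
    rw [Finset.sum_congr rfl (fun j _ => h2 j), d'.comp_self_right]
  rw [Finset.sum_congr rfl (fun i _ => h1 i), d.comp_self_left]

lemma hom_ext (d : Decomp U P n) (d' : Decomp U P' n') {a b : P ⟶ P'}
    (h : ∀ i j, d.ι i ≫ a ≫ d'.π j = d.ι i ≫ b ≫ d'.π j) : a = b := by
  rw [expand d d' a, expand d d' b]
  exact Finset.sum_congr rfl (fun i _ => Finset.sum_congr rfl (fun j _ => by rw [h i j]))

/-- the transpose of a map, with respect to decompositions -/
def tr (d : Decomp U P n) (d' : Decomp U P' n') (u : P ⟶ P') : P' ⟶ P :=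
  ∑ i, ∑ j, d'.π j ≫ (d.ι i ≫ u ≫ d'.π j) ≫ d.ι i

lemma tr_components (d : Decomp U P n) (d' : Decomp U P' n') (u : P ⟶ P') (i : Fin n)
    (j : Fin n') : d'.ι j ≫ tr d d' u ≫ d.π i = d.ι i ≫ u ≫ d'.π j := by
  classical
  unfold tr
  simp only [Preadditive.sum_comp, Preadditive.comp_sum, Category.assoc]
  rw [Finset.sum_eq_single i]
  · rw [Finset.sum_eq_single j]
    · rw [d.ι_π_self, ← Category.assoc (d'.ι j), d'.ι_π_self]
      simp
    · intro j' _ hj'
      rw [← Category.assoc (d'.ι j), d'.ι_π_ne j j' (Ne.symm hj'), zero_comp]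
    · intro h; exact absurd (Finset.mem_univ j) h
  · intro i' _ hi'
    refine Finset.sum_eq_zero (fun j' _ => ?_)
    rw [d.ι_π_ne i' i hi']
    simp
  · intro h; exact absurd (Finset.mem_univ i) h

lemma tr_zero (d : Decomp U P n) (d' : Decomp U P' n') : tr d d' (0 : P ⟶ P') = 0 := by
  unfold tr
  simp

lemma comp_components (d : Decomp U P n) (d' : Decomp U P' n') (d'' : Decomp U P'' n'')
    (u : P ⟶ P') (w : P' ⟶ P'') (i : Fin n) (k : Fin n'') :
    d.ι i ≫ (u ≫ w) ≫ d''.π k = ∑ j, (d.ι i ≫ u ≫ d'.π j) ≫ (d'.ι j ≫ w ≫ d''.π k) := by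
  have h : ∀ j : Fin n', (d.ι i ≫ u ≫ d'.π j) ≫ (d'.ι j ≫ w ≫ d''.π k) =
      (d.ι i ≫ u) ≫ (d'.π j ≫ d'.ι j) ≫ (w ≫ d''.π k) := fun j => by simp
  rw [Finset.sum_congr rfl (fun j _ => h j), ← Preadditive.comp_sum, ← Preadditive.sum_comp,
    d'.sum]
  simp

lemma tr_comp (hcomm : ∀ f g : U ⟶ U, f ≫ g = g ≫ f) (d : Decomp U P n) (d' : Decomp U P' n')
    (d'' : Decomp U P'' n'') (u : P ⟶ P') (w : P' ⟶ P'') :
    tr d d'' (u ≫ w) = tr d' d'' w ≫ tr d d' u := by
  apply hom_ext d'' d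
  intro k i
  rw [tr_components, comp_components d'' d' d, comp_components d d' d'']
  refine Finset.sum_congr rfl (fun j _ => ?_)
  rw [tr_components, tr_components]
  exact hcomm _ _

end Decomp

end Groth.Agent.Lib.Helper5.Dual
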