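import Mathlib
import Groth.Agent.Lib.Helper5.Dual.Decomp

/-!
# The adjunction `T(-, P) ⊣ T(-, Q)` for `P`, `Q` direct sums of `n` copies of the unit (helper5)
-/
set_option autoImplicit false
set_option linter.unusedSectionVars false
set_option linter.unusedVariables false
universe u
open CategoryTheory CategoryTheory.Limits

namespace Groth.Agent.Lib.Helper5.Dual

variable {A : Type*} [Category A] [Preadditive A]
  (T : A ⥤ A ⥤ A) [T.Additive] [∀ X : A, (T.obj X).Additive] {U : A} (ρ : T.flip.obj U ≅ 𝟭 A)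

/-- the right unitor `B ⊗ U ⟶ B` -/
def ρh (B : A) : (T.obj B).obj U ⟶ B := ρ.hom.app B

/-- the inverse of the right unitor -/
def ρi (B : A) : B ⟶ (T.obj B).obj U := ρ.inv.app B

@[reassoc (attr := simp)]
lemma ρi_ρh (B : A) : ρi T ρ B ≫ ρh T ρ B = 𝟙 B := ρ.inv_hom_id_app B

@[reassoc (attr := simp)]
lemma ρh_ρi (B : A) : ρh T ρ B ≫ ρi T ρ B = 𝟙 _ := ρ.hom_inv_id_app B

@[reassoc]
lemma ρh_nat {B B' : A} (f : B ⟶ B') : (T.map f).app U ≫ ρh T ρ B' = ρh T ρ B ≫ f :=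
  ρ.hom.naturality f

@[reassoc]
lemma ρi_nat {B B' : A} (f : B ⟶ B') : f ≫ ρi T ρ B' = ρi T ρ B ≫ (T.map f).app U :=
  ρ.inv.naturality f

/-- the action of an endomorphism of the unit on an object -/
def μ (B : A) (f : U ⟶ U) : B ⟶ B := ρi T ρ B ≫ (T.obj B).map f ≫ ρh T ρ B

lemma μ_nat {B C : A} (k : B ⟶ C) (f : U ⟶ U) : μ T ρ B f ≫ k = k ≫ μ T ρ C f := by
  unfold μ
  rw [Category.assoc, Category.assoc, ← ρh_nat, ← Category.assoc ((T.obj B).map f),
    (T.map k).naturality f, Category.assoc, ← ρi_nat_assoc]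

variable {P P' Q Q' : A} {n n' : ℕ}

/-- the induced decomposition of `B ⊗ P` into copies of `B` -/
def Decomp.tens (d : Decomp U P n) (B : A) : Decomp B ((T.obj B).obj P) n where
  ι i := ρi T ρ B ≫ (T.obj B).map (d.ι i)
  π i := (T.obj B).map (d.π i) ≫ ρh T ρ B
  ι_π_self i := by
    rw [Category.assoc, ← Category.assoc ((T.obj B).map (d.ι i)), ← Functor.map_comp,
      d.ι_π_self, CategoryTheory.Functor.map_id, Category.id_comp, ρi_ρh]
  ι_π_ne i j h := by
    rw [Category.assoc, ← Category.assoc ((T.obj B).map (d.ι i)), ← Functor.map_comp,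
      d.ι_π_ne i j h, Functor.map_zero, zero_comp, comp_zero]
  sum := by
    have h : ∀ i : Fin n, ((T.obj B).map (d.π i) ≫ ρh T ρ B) ≫ ρi T ρ B ≫ (T.obj B).map (d.ι i) =
        (T.obj B).map (d.π i ≫ d.ι i) := by
      intro i
      rw [Category.assoc, ρh_ρi_assoc, Functor.map_comp]
    rw [Finset.sum_congr rfl (fun i _ => h i), ← Functor.map_sum, d.sum,
      CategoryTheory.Functor.map_id]

lemma Decomp.tens_ι_nat (d : Decomp U P n) {B B' : A} (f : B ⟶ B') (i : Fin n) :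
    f ≫ (d.tens T ρ B').ι i = (d.tens T ρ B).ι i ≫ (T.map f).app P := by
  show f ≫ ρi T ρ B' ≫ (T.obj B').map (d.ι i) = (ρi T ρ B ≫ (T.obj B).map (d.ι i)) ≫ (T.map f).app P
  rw [ρi_nat_assoc, Category.assoc, (T.map f).naturality]

lemma Decomp.tens_π_nat (d : Decomp U P n) {B B' : A} (f : B ⟶ B') (i : Fin n) :
    (T.map f).app P ≫ (d.tens T ρ B').π i = (d.tens T ρ B).π i ≫ f := by
  show (T.map f).app P ≫ (T.obj B').map (d.π i) ≫ ρh T ρ B' =
    ((T.obj B).map (d.π i) ≫ ρh T ρ B) ≫ f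
  rw [Category.assoc, ← ρh_nat, ← Category.assoc, ← (T.map f).naturality, Category.assoc]

/-- the map `Hom(B ⊗ P, C) → Hom(B, C ⊗ Q)` -/
def dTo (d : Decomp U P n) (e : Decomp U Q n) {B C : A} (g : (T.obj B).obj P ⟶ C) :
    B ⟶ (T.obj C).obj Q :=
  ∑ i, (d.tens T ρ B).ι i ≫ g ≫ (e.tens T ρ C).ι i

/-- the map `Hom(B, C ⊗ Q) → Hom(B ⊗ P, C)` -/
def dInv (d : Decomp U P n) (e : Decomp U Q n) {B C : A} (h : B ⟶ (T.obj C).obj Q) :
    (T.obj B).obj P ⟶ C :=
  ∑ i, (d.tens T ρ B).π i ≫ h ≫ (e.tens T ρ C).π i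

lemma dInv_dTo (d : Decomp U P n) (e : Decomp U Q n) {B C : A} (g : (T.obj B).obj P ⟶ C) :
    dInv T ρ d e (dTo T ρ d e g) = g := by
  classical
  unfold dInv dTo
  simp only [Preadditive.sum_comp, Preadditive.comp_sum, Category.assoc]
  have h1 : ∀ j : Fin n, ∑ i, (d.tens T ρ B).π j ≫ (d.tens T ρ B).ι i ≫ g ≫
      (e.tens T ρ C).ι i ≫ (e.tens T ρ C).π j = (d.tens T ρ B).π j ≫ (d.tens T ρ B).ι j ≫ g := by
    intro j
    rw [Finset.sum_eq_single j]
    · rw [(e.tens T ρ C).ι_π_self, Category.comp_id]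
    · intro i _ hi
      rw [(e.tens T ρ C).ι_π_ne i j hi, comp_zero, comp_zero, comp_zero]
    · intro h; exact absurd (Finset.mem_univ j) h
  rw [Finset.sum_congr rfl (fun j _ => h1 j), (d.tens T ρ B).comp_self_left]

lemma dTo_dInv (d : Decomp U P n) (e : Decomp U Q n) {B C : A} (h : B ⟶ (T.obj C).obj Q) :
    dTo T ρ d e (dInv T ρ d e h) = h := by
  classical
  unfold dInv dTo
  simp only [Preadditive.sum_comp, Preadditive.comp_sum, Category.assoc]
  have h1 : ∀ i : Fin n, ∑ j, (d.tens T ρ B).ι i ≫ (d.tens T ρ B).π j ≫ h ≫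
      (e.tens T ρ C).π j ≫ (e.tens T ρ C).ι i = h ≫ (e.tens T ρ C).π i ≫ (e.tens T ρ C).ι i := by
    intro i
    rw [Finset.sum_eq_single i]
    · rw [← Category.assoc, (d.tens T ρ B).ι_π_self, Category.id_comp]
    · intro j _ hj
      rw [← Category.assoc, (d.tens T ρ B).ι_π_ne i j (Ne.symm hj), zero_comp]
    · intro h; exact absurd (Finset.mem_univ i) h
  rw [Finset.sum_congr rfl (fun i _ => h1 i), (e.tens T ρ C).comp_self_right]

/-- **the adjunction `T(-, P) ⊣ T(-, Q)`** for `P` and `Q` direct sums of `n` copies of `U` -/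
def decompAdj (d : Decomp U P n) (e : Decomp U Q n) : T.flip.obj P ⊣ T.flip.obj Q :=
  Adjunction.mkOfHomEquiv
    { homEquiv := fun B C =>
        { toFun := fun g => dTo T ρ d e g
          invFun := fun h => dInv T ρ d e h
          left_inv := fun g => dInv_dTo T ρ d e g
          right_inv := fun h => dTo_dInv T ρ d e h }
      homEquiv_naturality_left_symm := by
        intro B' B C f h
        show dInv T ρ d e (f ≫ h) = (T.map f).app P ≫ dInv T ρ d e h
        unfold dInv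
        rw [Preadditive.comp_sum]
        refine Finset.sum_congr rfl (fun i _ => ?_)
        rw [← Category.assoc ((T.map f).app P), d.tens_π_nat T ρ f i, Category.assoc,
          Category.assoc]
      homEquiv_naturality_right := by
        intro B C C' g c
        show dTo T ρ d e (g ≫ c) = dTo T ρ d e g ≫ (T.map c).app Q
        unfold dTo
        rw [Preadditive.sum_comp]
        refine Finset.sum_congr rfl (fun i _ => ?_)
        rw [Category.assoc, Category.assoc, Category.assoc, e.tens_ι_nat T ρ c i] }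

lemma decompAdj_homEquiv (d : Decomp U P n) (e : Decomp U Q n) {B C : A}
    (g : (T.obj B).obj P ⟶ C) :
    (decompAdj T ρ d e).homEquiv B C g = dTo T ρ d e g := by
  simp [decompAdj]

lemma tens_ι_map (d : Decomp U P n) (d' : Decomp U P' n') (u : P ⟶ P') (B : A) (i : Fin n) :
    (d.tens T ρ B).ι i ≫ (T.obj B).map u =
      ∑ j, μ T ρ B (d.ι i ≫ u ≫ d'.π j) ≫ (d'.tens T ρ B).ι j := by
  have h : ∀ j : Fin n', μ T ρ B (d.ι i ≫ u ≫ d'.π j) ≫ (d'.tens T ρ B).ι j =
      ρi T ρ B ≫ (T.obj B).map ((d.ι i ≫ u) ≫ d'.π j ≫ d'.ι j) := by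
    intro j
    show (ρi T ρ B ≫ (T.obj B).map (d.ι i ≫ u ≫ d'.π j) ≫ ρh T ρ B) ≫
      ρi T ρ B ≫ (T.obj B).map (d'.ι j) = _
    rw [Category.assoc, Category.assoc, ρh_ρi_assoc, ← Functor.map_comp]
    simp
  rw [Finset.sum_congr rfl (fun j _ => h j), ← Preadditive.comp_sum, ← Functor.map_sum,
    d'.comp_self_right]
  show (ρi T ρ B ≫ (T.obj B).map (d.ι i)) ≫ (T.obj B).map u = _
  rw [Category.assoc, ← Functor.map_comp]

/-- **compatibility of the adjunctions with transposed maps** -/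
lemma dTo_transp (d : Decomp U P n) (e : Decomp U Q n) (d' : Decomp U P' n') (e' : Decomp U Q' n')
    (u : P ⟶ P') (v : Q' ⟶ Q) (huv : ∀ i j, d.ι i ≫ u ≫ d'.π j = e'.ι j ≫ v ≫ e.π i) {B C : A}
    (g : (T.obj B).obj P' ⟶ C) :
    dTo T ρ d e ((T.obj B).map u ≫ g) = dTo T ρ d' e' g ≫ (T.obj C).map v := by
  unfold dTo
  rw [Preadditive.sum_comp]
  have h1 : ∀ i : Fin n, (d.tens T ρ B).ι i ≫ ((T.obj B).map u ≫ g) ≫ (e.tens T ρ C).ι i =
      ∑ j, μ T ρ B (d.ι i ≫ u ≫ d'.π j) ≫ (d'.tens T ρ B).ι j ≫ g ≫ (e.tens T ρ C).ι i := by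
    intro i
    rw [Category.assoc, ← Category.assoc, tens_ι_map T ρ d d' u B i, Preadditive.sum_comp]
    exact Finset.sum_congr rfl (fun j _ => by rw [Category.assoc])
  have h2 : ∀ j : Fin n', ((d'.tens T ρ B).ι j ≫ g ≫ (e'.tens T ρ C).ι j) ≫ (T.obj C).map v =
      ∑ i, μ T ρ B (d.ι i ≫ u ≫ d'.π j) ≫ (d'.tens T ρ B).ι j ≫ g ≫ (e.tens T ρ C).ι i := by
    intro j
    rw [Category.assoc, Category.assoc, tens_ι_map T ρ e' e v C j, Preadditive.comp_sum,
      Preadditive.comp_sum]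
    refine Finset.sum_congr rfl (fun i _ => ?_)
    rw [← huv i j]
    have hm := μ_nat T ρ ((d'.tens T ρ B).ι j ≫ g) (d.ι i ≫ u ≫ d'.π j)
    simp only [Category.assoc] at hm
    rw [reassoc_of% hm]
  rw [Finset.sum_congr rfl (fun i _ => h1 i), Finset.sum_congr rfl (fun j _ => h2 j),
    Finset.sum_comm]

end Groth.Agent.Lib.Helper5.Dual
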