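import Mathlib
import Groth.Agent.Lib.Helper5.Misc.ProjTot

/-!
# The adjunction `- ⊗ E ⊣ - ⊗ F` on cochain complexes from termwise adjunctions (helper5)

Part 1: projections from a total complex, the unit and the counit in each degree.
-/
set_option autoImplicit false
set_option linter.unusedSectionVars false
set_option linter.unusedVariables false
universe u
open CategoryTheory CategoryTheory.Limits HomologicalComplex

namespace Groth.Agent.Lib.Helper5.Dual

variable {A : Type*} [Category A] [Preadditive A] [HasZeroObject A]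
  (T : A ⥤ A ⥤ A) [T.Additive] [∀ X : A, (T.obj X).Additive]
  [∀ (K₁ K₂ : CochainComplex A ℤ), CochainComplex.HasMapBifunctor K₁ K₂ T]

/-- the total complex `N ⊗ E` -/
noncomputable abbrev tot (N E : CochainComplex A ℤ) : CochainComplex A ℤ :=
  mapBifunctor N E T (ComplexShape.up ℤ)

/-- the inclusion of a summand -/
noncomputable abbrev ιt (N E : CochainComplex A ℤ) (p q n : ℤ) (h : p + q = n) :
    (T.obj (N.X p)).obj (E.X q) ⟶ (tot T N E).X n :=
  ιMapBifunctor N E T (ComplexShape.up ℤ) p q n h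

lemma ιt_d (N E : CochainComplex A ℤ) (p q n : ℤ) (h : p + q = n)
    (h1 : p + 1 + q = n + 1) (h2 : p + (q + 1) = n + 1) :
    ιt T N E p q n h ≫ (tot T N E).d n (n + 1) =
      (T.map (N.d p (p + 1))).app (E.X q) ≫ ιt T N E (p + 1) q (n + 1) h1 +
      p.negOnePow • ((T.obj (N.X p)).map (E.d q (q + 1)) ≫ ιt T N E p (q + 1) (n + 1) h2) := by
  have := Groth.Agent.Lib.Helper5.Misc.ProjTot.ι_d_raw T N E p q n h h1 h2
  rw [this]
  have e1 : ComplexShape.ε₁ (ComplexShape.up ℤ) (ComplexShape.up ℤ) (ComplexShape.up ℤ) (p, q)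
      = 1 := rfl
  have e2 : ComplexShape.ε₂ (ComplexShape.up ℤ) (ComplexShape.up ℤ) (ComplexShape.up ℤ) (p, q)
      = p.negOnePow := rfl
  rw [e1, e2, one_smul]

/-- the projection onto a summand -/
noncomputable def πt (N E : CochainComplex A ℤ) (p q n : ℤ) (h : p + q = n) :
    (tot T N E).X n ⟶ (T.obj (N.X p)).obj (E.X q) :=
  mapBifunctorDesc (fun p' q' _ =>
    if hh : p' = p ∧ q' = q then eqToHom (by rw [hh.1, hh.2]) else 0)

lemma ιt_πt_self (N E : CochainComplex A ℤ) (p q n : ℤ) (h : p + q = n) :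
    ιt T N E p q n h ≫ πt T N E p q n h = 𝟙 _ := by
  unfold πt
  rw [ι_mapBifunctorDesc]
  simp

lemma ιt_πt_ne (N E : CochainComplex A ℤ) (p q p' q' n : ℤ) (h : p + q = n) (h' : p' + q' = n)
    (hne : p' ≠ p) :
    ιt T N E p' q' n h' ≫ πt T N E p q n h = 0 := by
  unfold πt
  rw [ι_mapBifunctorDesc]
  rw [dif_neg]
  rintro ⟨h1, -⟩
  exact hne h1

lemma isZero_T_left (B C : A) (h : IsZero B) : IsZero ((T.obj B).obj C) := by
  have h1 : IsZero (T.obj B) := Functor.map_isZero T h
  exact (Functor.isZero_iff _).1 h1 _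

lemma isZero_T_right (B C : A) (h : IsZero C) : IsZero ((T.obj B).obj C) :=
  Functor.map_isZero (T.obj B) h

end Groth.Agent.Lib.Helper5.Dual
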