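import Mathlib
import Groth.Agent.Lib.Helper5.Dual.TotAdj1

/-!
# The adjunction `- ⊗ E ⊣ - ⊗ F` on cochain complexes from termwise adjunctions (helper5)

Part 2: the compatibility of units and counits with the differentials, and the counit.
-/
set_option autoImplicit false
set_option linter.unusedSectionVars false
set_option linter.unusedVariables false
universe u
open CategoryTheory CategoryTheory.Limits HomologicalComplex

namespace Groth.Agent.Lib.Helper5.Dual

variable {A : Type*} [Category A] [Preadditive A] [HasZeroObject A]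
  (T : A ⥤ A ⥤ A) [T.Additive] [∀ X : A, (T.obj X).Additive]
  [∀ (K₁ K₂ : CochainComplex A ℤ), CochainComplex.HasMapBifunctor K₁ K₂ T]

lemma ιt_d' (N E : CochainComplex A ℤ) (p q n p' q' n' : ℤ) (h : p + q = n)
    (hp : p + 1 = p') (hq : q + 1 = q') (hn : n + 1 = n') :
    ιt T N E p q n h ≫ (tot T N E).d n n' =
      (T.map (N.d p p')).app (E.X q) ≫ ιt T N E p' q n' (by omega) +
      p.negOnePow • ((T.obj (N.X p)).map (E.d q q') ≫ ιt T N E p q' n' (by omega)) := by
  subst hp hq hn
  exact ιt_d T N E p q n h _ _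

lemma d_πt (M F : CochainComplex A ℤ) (m m' s' s r' r : ℤ) (hm : m + 1 = m') (hs : s' + 1 = s)
    (hr : r' + 1 = r) (h : s + r = m') :
    (tot T M F).d m m' ≫ πt T M F s r m' h =
      πt T M F s' r m (by omega) ≫ (T.map (M.d s' s)).app (F.X r) +
      s.negOnePow • (πt T M F s r' m (by omega) ≫ (T.obj (M.X s)).map (F.d r' r)) := by
  apply mapBifunctor.hom_ext
  intro p q hpq
  have hpq' : p + q = m := hpq
  rw [← Category.assoc]
  erw [ιt_d' T M F p q m (p + 1) (q + 1) m' hpq' rfl rfl hm]
  rw [Preadditive.add_comp, Preadditive.comp_add, Category.assoc, Linear.units_smul_comp,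
    Category.assoc, Linear.comp_units_smul]
  by_cases h1 : p = s'
  · subst h1
    subst hs
    have hq : q = r := by omega
    subst hq
    rw [ιt_πt_self, Category.comp_id, ιt_πt_ne T M F (p + 1) q p (q + 1) m' h (by omega)
      (by omega), comp_zero, smul_zero, add_zero]
    erw [← Category.assoc, ιt_πt_self, Category.id_comp]
    erw [← Category.assoc, ιt_πt_ne T M F (p + 1) r' p q m (by omega) hpq' (by omega)]
    rw [zero_comp, smul_zero, add_zero]
  · by_cases h2 : p = s
    · subst h2
      have hq : q = r' := by omega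
      subst hq
      subst hr
      rw [ιt_πt_ne T M F p (q + 1) (p + 1) q m' h (by omega) (by omega), comp_zero, zero_add,
        ιt_πt_self, Category.comp_id]
      erw [← Category.assoc, ιt_πt_ne T M F s' (q + 1) p q m (by omega) hpq' (by omega)]
      erw [← Category.assoc, ιt_πt_self]
      rw [zero_comp, zero_add, Category.id_comp]
    · rw [ιt_πt_ne T M F s r (p + 1) q m' h (by omega) (by omega), comp_zero, zero_add,
        ιt_πt_ne T M F s r p (q + 1) m' h (by omega) (by omega), comp_zero, smul_zero]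
      erw [← Category.assoc, ιt_πt_ne T M F s' r p q m (by omega) hpq' h1]
      erw [← Category.assoc, ιt_πt_ne T M F s r' p q m (by omega) hpq' h2]
      rw [zero_comp, zero_comp, smul_zero, add_zero]

variable (E F : CochainComplex A ℤ)
  (adj : ∀ q : ℤ, T.flip.obj (E.X q) ⊣ T.flip.obj (F.X (-q)))
  (hadj : ∀ (q : ℤ) (B C : A) (g : (T.obj B).obj (E.X (q + 1)) ⟶ C),
    (adj q).homEquiv B C ((T.obj B).map (E.d q (q + 1)) ≫ g) =
      (adj (q + 1)).homEquiv B C g ≫ (T.obj C).map (q.negOnePow • F.d (-(q + 1)) (-q)))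

lemma counit_nat (q : ℤ) {C C' : A} (g : C ⟶ C') :
    (T.map ((T.map g).app (F.X (-q)))).app (E.X q) ≫ (adj q).counit.app C' =
      (adj q).counit.app C ≫ g :=
  (adj q).counit.naturality g

lemma unit_nat (q : ℤ) {B B' : A} (f : B ⟶ B') :
    f ≫ (adj q).unit.app B' =
      (adj q).unit.app B ≫ (T.map ((T.map f).app (E.X q))).app (F.X (-q)) :=
  (adj q).unit.naturality f

lemma left_tri (q : ℤ) (B : A) :
    (T.map ((adj q).unit.app B)).app (E.X q) ≫ (adj q).counit.app ((T.obj B).obj (E.X q)) =
      𝟙 _ :=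
  (adj q).left_triangle_components B

lemma right_tri (q : ℤ) (C : A) :
    (adj q).unit.app ((T.obj C).obj (F.X (-q))) ≫ (T.map ((adj q).counit.app C)).app (F.X (-q)) =
      𝟙 _ :=
  (adj q).right_triangle_components C

include hadj in
lemma unit_comp (q : ℤ) (B : A) :
    (adj q).unit.app B ≫ (T.map ((T.obj B).map (E.d q (q + 1)))).app (F.X (-q)) =
      (adj (q + 1)).unit.app B ≫
        (T.obj ((T.obj B).obj (E.X (q + 1)))).map (q.negOnePow • F.d (-(q + 1)) (-q)) := by
  have h := hadj q B _ (𝟙 _)
  rw [Category.comp_id, Adjunction.homEquiv_unit, Adjunction.homEquiv_unit] at h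
  simpa using h

include hadj in
lemma counit_comp (q : ℤ) (C : A) :
    (T.map ((T.obj C).map (q.negOnePow • F.d (-(q + 1)) (-q)))).app (E.X q) ≫
        (adj q).counit.app C =
      (T.obj ((T.obj C).obj (F.X (-(q + 1))))).map (E.d q (q + 1)) ≫
        (adj (q + 1)).counit.app C := by
  have h := hadj q _ C ((adj (q + 1)).counit.app C)
  have h2 : (adj (q + 1)).homEquiv _ C ((adj (q + 1)).counit.app C) = 𝟙 _ := by
    rw [Adjunction.homEquiv_unit]
    exact (adj (q + 1)).right_triangle_components C
  erw [h2] at h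
  rw [Category.id_comp] at h
  have h3 := congrArg ((adj q).homEquiv _ C).symm h
  rw [Equiv.symm_apply_apply] at h3
  erw [h3, Adjunction.homEquiv_counit]
  rfl

include adj in
/-- when `E^q` is zero, so is `C ⊗ F^{-q}` -/
lemma isZero_T_F (q : ℤ) (hq : IsZero (E.X q)) (C : A) : IsZero ((T.obj C).obj (F.X (-q))) := by
  rw [IsZero.iff_id_eq_zero]
  apply ((adj q).homEquiv _ _).symm.injective
  apply (isZero_T_right T _ _ hq).eq_of_src

/-- the counit in degree `n` -/
noncomputable def εf (M : CochainComplex A ℤ) (n : ℤ) :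
    (tot T (tot T M F) E).X n ⟶ M.X n :=
  mapBifunctorDesc (fun m q (h : m + q = n) =>
    (T.map (πt T M F n (-q) m (by omega))).app (E.X q) ≫ (adj q).counit.app (M.X n))

lemma ι_εf (M : CochainComplex A ℤ) (m q n : ℤ) (h : m + q = n) :
    ιt T (tot T M F) E m q n h ≫ εf T E F adj M n =
      (T.map (πt T M F n (-q) m (by omega))).app (E.X q) ≫ (adj q).counit.app (M.X n) := by
  unfold εf
  rw [ι_mapBifunctorDesc]

include hadj in
lemma εf_comm (M : CochainComplex A ℤ) (n : ℤ) :
    εf T E F adj M n ≫ M.d n (n + 1) =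
      (tot T (tot T M F) E).d n (n + 1) ≫ εf T E F adj M (n + 1) := by
  apply mapBifunctor.hom_ext
  intro m q hmq
  have hmq' : m + q = n := hmq
  rw [← Category.assoc, ← Category.assoc]
  erw [ι_εf T E F adj M m q n hmq',
    ιt_d' T (tot T M F) E m q n (m + 1) (q + 1) (n + 1) hmq' rfl rfl rfl]
  rw [Preadditive.add_comp, Linear.units_smul_comp]
  simp only [Category.assoc]
  rw [ι_εf, ι_εf]
  -- first term
  have key1 := d_πt T M F m (m + 1) n (n + 1) (-(q + 1)) (-q) rfl rfl (by omega) (by omega)
  have e1 : (T.map ((tot T M F).d m (m + 1))).app (E.X q) ≫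
      (T.map (πt T M F (n + 1) (-q) (m + 1) (by omega))).app (E.X q) =
      (T.map (πt T M F n (-q) m (by omega))).app (E.X q) ≫
        (T.map ((T.map (M.d n (n + 1))).app (F.X (-q)))).app (E.X q) +
      (n + 1).negOnePow • ((T.map (πt T M F (n + 1) (-(q + 1)) m (by omega))).app (E.X q) ≫
        (T.map ((T.obj (M.X (n + 1))).map (F.d (-(q + 1)) (-q)))).app (E.X q)) := by
    rw [← NatTrans.comp_app, ← Functor.map_comp, key1, Functor.map_add, NatTrans.app_add,
      Functor.map_units_smul, NatTrans.app_units_zsmul, Functor.map_comp, Functor.map_comp,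
      NatTrans.comp_app, NatTrans.comp_app]
  -- second term
  have e2 : (T.obj ((tot T M F).X m)).map (E.d q (q + 1)) ≫
      (T.map (πt T M F (n + 1) (-(q + 1)) m (by omega))).app (E.X (q + 1)) ≫
        (adj (q + 1)).counit.app (M.X (n + 1)) =
      q.negOnePow • ((T.map (πt T M F (n + 1) (-(q + 1)) m (by omega))).app (E.X q) ≫
        (T.map ((T.obj (M.X (n + 1))).map (F.d (-(q + 1)) (-q)))).app (E.X q) ≫
        (adj q).counit.app (M.X (n + 1))) := by
    rw [← Category.assoc, (T.map (πt T M F (n + 1) (-(q + 1)) m (by omega))).naturality,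
      Category.assoc, ← counit_comp T E F adj hadj q (M.X (n + 1)), Functor.map_units_smul,
      Functor.map_units_smul, NatTrans.app_units_zsmul, Linear.units_smul_comp,
      Linear.comp_units_smul]
  have hs : (n + 1).negOnePow = -(m.negOnePow * q.negOnePow) := by
    rw [Int.negOnePow_succ, ← hmq', Int.negOnePow_add]
  rw [reassoc_of% e1, e2, Preadditive.add_comp, Linear.units_smul_comp]
  simp only [Category.assoc]
  rw [counit_nat, smul_smul, add_assoc, hs, Units.neg_smul, neg_add_cancel, add_zero]

end Groth.Agent.Lib.Helper5.Dual
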