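import Mathlib
import Groth.Agent.Lib.Helper5.Dual.TotAdj2

/-!
# The adjunction `- ⊗ E ⊣ - ⊗ F` on cochain complexes from termwise adjunctions (helper5)

Part 3: the unit.
-/
set_option autoImplicit false
set_option linter.unusedSectionVars false
set_option linter.unusedVariables false
universe u
open CategoryTheory CategoryTheory.Limits HomologicalComplex

namespace Groth.Agent.Lib.Helper5.Dual

variable {A : Type*} [Category A] [Preadditive A] [HasZeroObject A]
  (T : A ⥤ A ⥤ A) [T.Additive] [∀ X : A, (T.obj X).Additive]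
  [∀ (K₁ K₂ : CochainComplex A ℤ), CochainComplex.HasMapBifunctor K₁ K₂ T]
  (E F : CochainComplex A ℤ)
  (adj : ∀ q : ℤ, T.flip.obj (E.X q) ⊣ T.flip.obj (F.X (-q)))
  (hadj : ∀ (q : ℤ) (B C : A) (g : (T.obj B).obj (E.X (q + 1)) ⟶ C),
    (adj q).homEquiv B C ((T.obj B).map (E.d q (q + 1)) ≫ g) =
      (adj (q + 1)).homEquiv B C g ≫ (T.obj C).map (q.negOnePow • F.d (-(q + 1)) (-q)))

/-- a term of the unit -/
noncomputable def ηterm (N : CochainComplex A ℤ) (p q m : ℤ) (hm : p + q = m) :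
    N.X p ⟶ (tot T (tot T N E) F).X p :=
  (adj q).unit.app (N.X p) ≫ (T.map (ιt T N E p q m hm)).app (F.X (-q)) ≫
    ιt T (tot T N E) F m (-q) p (by omega)

lemma ηterm_congr (N : CochainComplex A ℤ) (p q m m₂ : ℤ) (hm : p + q = m) (hm₂ : p + q = m₂) :
    ηterm T E F adj N p q m hm = ηterm T E F adj N p q m₂ hm₂ := by
  obtain rfl : m = m₂ := by omega
  rfl

/-- the `C` term -/
noncomputable def Cterm (N : CochainComplex A ℤ) (p p' q m r' : ℤ) (hp : p + 1 = p')
    (hm : p + q = m) (hr : -q + 1 = r') : N.X p ⟶ (tot T (tot T N E) F).X p' :=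
  (adj q).unit.app (N.X p) ≫ (T.map (ιt T N E p q m hm)).app (F.X (-q)) ≫
    (T.obj ((tot T N E).X m)).map (F.d (-q) r') ≫ ιt T (tot T N E) F m r' p' (by omega)

lemma Cterm_congr (N : CochainComplex A ℤ) (p p' q m r' m₂ r₂ : ℤ) (hp : p + 1 = p')
    (hm : p + q = m) (hr : -q + 1 = r') (hm₂ : p + q = m₂) (hr₂ : -q + 1 = r₂) :
    Cterm T E F adj N p p' q m r' hp hm hr = Cterm T E F adj N p p' q m₂ r₂ hp hm₂ hr₂ := by
  obtain rfl : m = m₂ := by omega
  obtain rfl : r' = r₂ := by omega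
  rfl

lemma Cterm_eq_zero_of_src (N : CochainComplex A ℤ) (p p' q m r' : ℤ) (hp : p + 1 = p')
    (hm : p + q = m) (hr : -q + 1 = r') (hz : IsZero (E.X q)) :
    Cterm T E F adj N p p' q m r' hp hm hr = 0 := by
  unfold Cterm
  have h0 : (adj q).unit.app (N.X p) = 0 :=
    (isZero_T_left T _ _ (isZero_T_right T _ _ hz)).eq_of_tgt _ _
  rw [h0, zero_comp]

lemma Cterm_eq_zero_of_tgt (N : CochainComplex A ℤ) (p p' q m r' : ℤ) (hp : p + 1 = p')
    (hm : p + q = m) (hr : -q + 1 = r') (q₀ : ℤ) (hq₀ : r' = -q₀) (hz : IsZero (E.X q₀)) :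
    Cterm T E F adj N p p' q m r' hp hm hr = 0 := by
  subst hq₀
  unfold Cterm
  have h0 : (T.obj ((tot T N E).X m)).map (F.d (-q) (-q₀)) = 0 :=
    (isZero_T_F T E F adj q₀ hz _).eq_of_tgt _ _
  rw [h0, zero_comp, comp_zero, comp_zero]

include hadj in
lemma B_eq (N : CochainComplex A ℤ) (p p' q q' m' r' : ℤ) (hp : p + 1 = p') (hq : q + 1 = q')
    (hm' : p + q' = m') (hr : -q' + 1 = r') :
    (adj q).unit.app (N.X p) ≫
      (T.map ((T.obj (N.X p)).map (E.d q q') ≫ ιt T N E p q' m' hm')).app (F.X (-q)) ≫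
        ιt T (tot T N E) F m' (-q) p' (by omega) =
      q.negOnePow • Cterm T E F adj N p p' q' m' r' hp hm' hr := by
  subst hq
  obtain rfl : r' = -q := by omega
  unfold Cterm
  rw [Functor.map_comp, NatTrans.comp_app, Category.assoc,
    reassoc_of% (unit_comp T E F adj hadj q (N.X p)), Functor.map_units_smul,
    Linear.units_smul_comp, Linear.comp_units_smul]
  congr 2
  rw [← Category.assoc, ← Category.assoc, ← (T.map (ιt T N E p (q + 1) m' hm')).naturality]

include hadj in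
lemma ηterm_d (N : CochainComplex A ℤ) (p p' q q' m m' r' r'' : ℤ) (hp : p + 1 = p')
    (hq : q + 1 = q') (hm : p + q = m) (hm' : m + 1 = m') (hr : -q + 1 = r')
    (hr'' : -q' + 1 = r'') :
    ηterm T E F adj N p q m hm ≫ (tot T (tot T N E) F).d p p' =
      N.d p p' ≫ ηterm T E F adj N p' q m' (by omega) +
      p.negOnePow • (q.negOnePow • Cterm T E F adj N p p' q' m' r'' hp (by omega) hr'' +
        q.negOnePow • Cterm T E F adj N p p' q m r' hp hm hr) := by
  unfold ηterm
  simp only [Category.assoc]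
  rw [ιt_d' T (tot T N E) F m (-q) p m' r' p' (by omega) hm' hr hp]
  rw [Preadditive.comp_add, Preadditive.comp_add, Linear.comp_units_smul, Linear.comp_units_smul]
  have e1 : (T.map (ιt T N E p q m hm)).app (F.X (-q)) ≫
      (T.map ((tot T N E).d m m')).app (F.X (-q)) =
      (T.map ((T.map (N.d p p')).app (E.X q))).app (F.X (-q)) ≫
        (T.map (ιt T N E p' q m' (by omega))).app (F.X (-q)) +
      p.negOnePow • (T.map ((T.obj (N.X p)).map (E.d q q') ≫
        ιt T N E p q' m' (by omega))).app (F.X (-q)) := by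
    rw [← NatTrans.comp_app, ← Functor.map_comp, ιt_d' T N E p q m p' q' m' hm hp hq hm',
      Functor.map_add, NatTrans.app_add, Functor.map_units_smul, NatTrans.app_units_zsmul,
      Functor.map_comp, NatTrans.comp_app]
  rw [reassoc_of% e1, Preadditive.add_comp, Preadditive.comp_add, Linear.units_smul_comp,
    Linear.comp_units_smul, Category.assoc,
    B_eq T E F adj hadj N p p' q q' m' r'' hp hq (by omega) hr'',
    reassoc_of% (unit_nat T E F adj q (N.d p p'))]
  have hs : m.negOnePow = p.negOnePow * q.negOnePow := by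
    rw [← hm, Int.negOnePow_add]
  rw [hs, add_assoc, smul_add, smul_smul, smul_smul]
  rfl

variable (a : ℤ) (k : ℕ)

/-- the unit in degree `p` -/
noncomputable def ηf (N : CochainComplex A ℤ) (p : ℤ) : N.X p ⟶ (tot T (tot T N E) F).X p :=
  ∑ i ∈ Finset.range (k + 1), ηterm T E F adj N p (a + i) (p + (a + i)) rfl

/-- the signed `C` terms -/
noncomputable def cterm (N : CochainComplex A ℤ) (p p' : ℤ) (hp : p + 1 = p') (i : ℕ) :
    N.X p ⟶ (tot T (tot T N E) F).X p' :=
  (a + i).negOnePow •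
    Cterm T E F adj N p p' (a + i) (p + (a + i)) (-(a + i) + 1) hp rfl rfl

include hadj in
lemma ηf_comm (hE : ∀ q : ℤ, (q < a ∨ a + k < q) → IsZero (E.X q)) (N : CochainComplex A ℤ)
    (p : ℤ) :
    ηf T E F adj a k N p ≫ (tot T (tot T N E) F).d p (p + 1) =
      N.d p (p + 1) ≫ ηf T E F adj a k N (p + 1) := by
  unfold ηf
  rw [Preadditive.sum_comp, Preadditive.comp_sum]
  have h1 : ∀ i ∈ Finset.range (k + 1),
      ηterm T E F adj N p (a + i) (p + (a + i)) rfl ≫ (tot T (tot T N E) F).d p (p + 1) =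
      N.d p (p + 1) ≫ ηterm T E F adj N (p + 1) (a + i) (p + 1 + (a + i)) rfl +
        p.negOnePow • (cterm T E F adj a N p (p + 1) rfl i -
          cterm T E F adj a N p (p + 1) rfl (i + 1)) := by
    intro i _
    rw [ηterm_d T E F adj hadj N p (p + 1) (a + i) (a + ((i + 1 : ℕ) : ℤ)) (p + (a + i))
      (p + (a + i) + 1) (-(a + i) + 1) (-(a + ((i + 1 : ℕ) : ℤ)) + 1) rfl (by push_cast; ring)
      rfl rfl rfl rfl]
    rw [ηterm_congr T E F adj N (p + 1) (a + i) (p + (a + i) + 1) (p + 1 + (a + i)) (by omega)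
      rfl]
    congr 2
    unfold cterm
    rw [Cterm_congr T E F adj N p (p + 1) (a + ((i + 1 : ℕ) : ℤ)) (p + (a + i) + 1)
      (-(a + ((i + 1 : ℕ) : ℤ)) + 1) (p + (a + ((i + 1 : ℕ) : ℤ)))
      (-(a + ((i + 1 : ℕ) : ℤ)) + 1) rfl (by push_cast; ring) rfl rfl rfl]
    have hsg : (a + ((i + 1 : ℕ) : ℤ)).negOnePow = - (a + (i : ℤ)).negOnePow := by
      push_cast
      rw [← add_assoc, Int.negOnePow_succ]
    rw [hsg, Units.neg_smul, sub_neg_eq_add]
    exact add_comm _ _
  rw [Finset.sum_congr rfl h1, Finset.sum_add_distrib, ← Finset.smul_sum,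
    Finset.sum_range_sub']
  have c0 : cterm T E F adj a N p (p + 1) rfl 0 = 0 := by
    unfold cterm
    rw [Cterm_eq_zero_of_tgt T E F adj N p (p + 1) (a + ((0 : ℕ) : ℤ)) _ _ rfl rfl rfl (a - 1)
      (by push_cast; ring) (hE _ (Or.inl (by omega))), smul_zero]
  have ck : cterm T E F adj a N p (p + 1) rfl (k + 1) = 0 := by
    unfold cterm
    rw [Cterm_eq_zero_of_src T E F adj N p (p + 1) (a + ((k + 1 : ℕ) : ℤ)) _ _ rfl rfl rfl
      (hE _ (Or.inr (by push_cast; omega))), smul_zero]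
  rw [c0, ck, sub_zero, smul_zero, add_zero]

end Groth.Agent.Lib.Helper5.Dual
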