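import Mathlib
import Groth.Agent.Lib.Helper5.Dual.TotAdj3

/-!
# The adjunction `- ⊗ E ⊣ - ⊗ F` on cochain complexes from termwise adjunctions (helper5)

Part 4: unit and counit as natural transformations.
-/
set_option autoImplicit false
set_option linter.unusedSectionVars false
set_option linter.unusedVariables false
universe u
open CategoryTheory CategoryTheory.Limits HomologicalComplex

namespace Groth.Agent.Lib.Helper5.Dual

variable {A : Type*} [Category A] [Preadditive A] [HasZeroObject A]
  (T : A ⥤ A ⥤ A) [T.Additive] [∀ X : A, (T.obj X).Additive]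
  [∀ (K₁ K₂ : CochainComplex A ℤ), CochainComplex.HasMapBifunctor K₁ K₂ T]

/-- `tot` map in the first variable -/
noncomputable abbrev totMap {N N' : CochainComplex A ℤ} (f : N ⟶ N') (E : CochainComplex A ℤ) :
    tot T N E ⟶ tot T N' E :=
  mapBifunctorMap f (𝟙 E) T (ComplexShape.up ℤ)

lemma ιt_totMap {N N' : CochainComplex A ℤ} (f : N ⟶ N') (E : CochainComplex A ℤ) (p q n : ℤ)
    (h : p + q = n) :
    ιt T N E p q n h ≫ (totMap T f E).f n = (T.map (f.f p)).app (E.X q) ≫ ιt T N' E p q n h := by
  rw [ι_mapBifunctorMap]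
  simp

lemma totMap_πt {M M' : CochainComplex A ℤ} (g : M ⟶ M') (F : CochainComplex A ℤ) (s r m : ℤ)
    (h : s + r = m) :
    (totMap T g F).f m ≫ πt T M' F s r m h = πt T M F s r m h ≫ (T.map (g.f s)).app (F.X r) := by
  apply mapBifunctor.hom_ext
  intro p q hpq
  have hpq' : p + q = m := hpq
  rw [← Category.assoc]
  erw [ιt_totMap T g F p q m hpq']
  rw [Category.assoc]
  by_cases h1 : p = s
  · subst h1
    obtain rfl : q = r := by omega
    rw [ιt_πt_self, Category.comp_id]
    erw [← Category.assoc, ιt_πt_self, Category.id_comp]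
  · rw [ιt_πt_ne T M' F s r p q m h hpq' h1, comp_zero]
    erw [← Category.assoc, ιt_πt_ne T M F s r p q m h hpq' h1, zero_comp]

variable (E F : CochainComplex A ℤ)
  (adj : ∀ q : ℤ, T.flip.obj (E.X q) ⊣ T.flip.obj (F.X (-q)))
  (hadj : ∀ (q : ℤ) (B C : A) (g : (T.obj B).obj (E.X (q + 1)) ⟶ C),
    (adj q).homEquiv B C ((T.obj B).map (E.d q (q + 1)) ≫ g) =
      (adj (q + 1)).homEquiv B C g ≫ (T.obj C).map (q.negOnePow • F.d (-(q + 1)) (-q)))
  (a : ℤ) (k : ℕ) (hE : ∀ q : ℤ, (q < a ∨ a + k < q) → IsZero (E.X q))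

include hadj in
/-- the counit as a morphism of complexes -/
noncomputable def εhom (M : CochainComplex A ℤ) : tot T (tot T M F) E ⟶ M where
  f n := εf T E F adj M n
  comm' i j hij := by
    obtain rfl : i + 1 = j := hij
    exact εf_comm T E F adj hadj M i

include hadj hE in
/-- the unit as a morphism of complexes -/
noncomputable def ηhom (N : CochainComplex A ℤ) : N ⟶ tot T (tot T N E) F where
  f p := ηf T E F adj a k N p
  comm' i j hij := by
    obtain rfl : i + 1 = j := hij
    exact ηf_comm T E F adj hadj a k hE N i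

lemma ηterm_nat {N N' : CochainComplex A ℤ} (f : N ⟶ N') (p q m : ℤ) (hm : p + q = m) :
    f.f p ≫ ηterm T E F adj N' p q m hm =
      ηterm T E F adj N p q m hm ≫ (totMap T (totMap T f E) F).f p := by
  unfold ηterm
  simp only [Category.assoc]
  rw [ιt_totMap, reassoc_of% (unit_nat T E F adj q (f.f p))]
  congr 1
  rw [← Category.assoc, ← Category.assoc, ← NatTrans.comp_app, ← NatTrans.comp_app,
    ← Functor.map_comp, ← Functor.map_comp, ιt_totMap]

lemma ηf_nat {N N' : CochainComplex A ℤ} (f : N ⟶ N') (p : ℤ) :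
    f.f p ≫ ηf T E F adj a k N' p =
      ηf T E F adj a k N p ≫ (totMap T (totMap T f E) F).f p := by
  unfold ηf
  rw [Preadditive.sum_comp, Preadditive.comp_sum]
  exact Finset.sum_congr rfl (fun i _ => ηterm_nat T E F adj f p _ _ rfl)

lemma εf_nat {M M' : CochainComplex A ℤ} (g : M ⟶ M') (n : ℤ) :
    (totMap T (totMap T g F) E).f n ≫ εf T E F adj M' n = εf T E F adj M n ≫ g.f n := by
  apply mapBifunctor.hom_ext
  intro m q hmq
  have hmq' : m + q = n := hmq
  rw [← Category.assoc, ← Category.assoc]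
  erw [ιt_totMap T (totMap T g F) E m q n hmq', ι_εf T E F adj M m q n hmq']
  rw [Category.assoc, ι_εf, Category.assoc, ← counit_nat, ← Category.assoc, ← Category.assoc,
    ← NatTrans.comp_app, ← NatTrans.comp_app, ← Functor.map_comp, ← Functor.map_comp, totMap_πt]

end Groth.Agent.Lib.Helper5.Dual
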