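import Mathlib
import Groth.Agent.Lib.Helper5.Dual.TotAdj4

/-!
# The adjunction `- ⊗ E ⊣ - ⊗ F` on cochain complexes from termwise adjunctions (helper5)

Part 5: the triangle identities and the adjunction.
-/
set_option autoImplicit false
set_option linter.unusedSectionVars false
set_option linter.unusedVariables false
universe u
open CategoryTheory CategoryTheory.Limits HomologicalComplex

namespace Groth.Agent.Lib.Helper5.Dual

variable {A : Type*} [Category A] [Preadditive A] [HasZeroObject A]
  (T : A ⥤ A ⥤ A) [T.Additive] [∀ X : A, (T.obj X).Additive]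
  [∀ (K₁ K₂ : CochainComplex A ℤ), CochainComplex.HasMapBifunctor K₁ K₂ T]
  (E F : CochainComplex A ℤ)
  (adj : ∀ q : ℤ, T.flip.obj (E.X q) ⊣ T.flip.obj (F.X (-q)))
  (hadj : ∀ (q : ℤ) (B C : A) (g : (T.obj B).obj (E.X (q + 1)) ⟶ C),
    (adj q).homEquiv B C ((T.obj B).map (E.d q (q + 1)) ≫ g) =
      (adj (q + 1)).homEquiv B C g ≫ (T.obj C).map (q.negOnePow • F.d (-(q + 1)) (-q)))
  (a : ℤ) (k : ℕ) (hE : ∀ q : ℤ, (q < a ∨ a + k < q) → IsZero (E.X q))

lemma ηterm_πt_self (N : CochainComplex A ℤ) (p q n : ℤ) (hn : p + q = n) :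
    ηterm T E F adj N p q n hn ≫ πt T (tot T N E) F n (-q) p (by omega) =
      (adj q).unit.app (N.X p) ≫ (T.map (ιt T N E p q n hn)).app (F.X (-q)) := by
  unfold ηterm
  rw [Category.assoc, Category.assoc, ιt_πt_self, Category.comp_id]

lemma ηterm_πt_ne (N : CochainComplex A ℤ) (p q q' n m' : ℤ) (hn : p + q = n) (hm' : p + q' = m')
    (hne : q' ≠ q) :
    ηterm T E F adj N p q' m' hm' ≫ πt T (tot T N E) F n (-q) p (by omega) = 0 := by
  unfold ηterm
  rw [Category.assoc, Category.assoc, ιt_πt_ne T (tot T N E) F n (-q) m' (-q') p (by omega)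
    (by omega) (by omega), comp_zero, comp_zero]

lemma ηf_πt (N : CochainComplex A ℤ) (p n : ℤ) (i₀ : ℕ) (hi₀ : i₀ ≤ k) (hn : p + (a + i₀) = n) :
    ηf T E F adj a k N p ≫ πt T (tot T N E) F n (-(a + i₀)) p (by omega) =
      (adj (a + i₀)).unit.app (N.X p) ≫
        (T.map (ιt T N E p (a + i₀) n hn)).app (F.X (-(a + i₀))) := by
  unfold ηf
  rw [Preadditive.sum_comp, Finset.sum_eq_single i₀]
  · rw [ηterm_congr T E F adj N p (a + i₀) (p + (a + i₀)) n rfl hn, ηterm_πt_self]
  · intro i _ hi
    exact ηterm_πt_ne T E F adj N p (a + i₀) (a + i) n _ hn rfl (by omega)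
  · intro h
    exact absurd (Finset.mem_range.2 (by omega)) h

include hE in
lemma left_tri_f (N : CochainComplex A ℤ) (n : ℤ) :
    (totMap T ((ηhom T E F adj hadj a k hE N)) E).f n ≫ εf T E F adj (tot T N E) n = 𝟙 _ := by
  apply mapBifunctor.hom_ext
  intro p q hpq
  have hpq' : p + q = n := hpq
  rw [← Category.assoc]
  erw [ιt_totMap T (ηhom T E F adj hadj a k hE N) E p q n hpq']
  rw [Category.assoc, ι_εf, Category.comp_id]
  by_cases hq : a ≤ q ∧ q ≤ a + k
  · obtain ⟨i₀, rfl⟩ : ∃ i₀ : ℕ, q = a + i₀ := ⟨(q - a).toNat, by omega⟩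
    rw [← Category.assoc, ← NatTrans.comp_app, ← Functor.map_comp]
    erw [ηf_πt T E F adj a k N p n i₀ (by omega) hpq']
    rw [Functor.map_comp, NatTrans.comp_app, Category.assoc, counit_nat,
      reassoc_of% (left_tri T E F adj (a + i₀) (N.X p))]
  · exact (isZero_T_right T _ _ (hE q (by omega))).eq_of_src _ _

lemma ηterm_εhom (M : CochainComplex A ℤ) (m q' m'' : ℤ) (hm'' : m + q' = m'') :
    ηterm T E F adj (tot T M F) m q' m'' hm'' ≫ (totMap T (εhom T E F adj hadj M) F).f m =
      πt T M F m'' (-q') m (by omega) ≫ ιt T M F m'' (-q') m (by omega) := by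
  unfold ηterm
  rw [Category.assoc, Category.assoc, ιt_totMap]
  have h1 : (T.map (ιt T (tot T M F) E m q' m'' hm'')).app (F.X (-q')) ≫
      (T.map ((εhom T E F adj hadj M).f m'')).app (F.X (-q')) =
      (T.map ((T.map (πt T M F m'' (-q') m (by omega))).app (E.X q'))).app (F.X (-q')) ≫
        (T.map ((adj q').counit.app (M.X m''))).app (F.X (-q')) := by
    rw [← NatTrans.comp_app, ← Functor.map_comp, ← NatTrans.comp_app, ← Functor.map_comp]
    congr 2
    exact ι_εf T E F adj M m q' m'' hm''
  rw [reassoc_of% h1, ← reassoc_of% (unit_nat T E F adj q' (πt T M F m'' (-q') m (by omega))),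
    reassoc_of% (right_tri T E F adj q' (M.X m''))]

include hE in
lemma right_tri_f (M : CochainComplex A ℤ) (m : ℤ) :
    ηf T E F adj a k (tot T M F) m ≫ (totMap T (εhom T E F adj hadj M) F).f m = 𝟙 _ := by
  apply mapBifunctor.hom_ext
  intro s r hsr
  have hsr' : s + r = m := hsr
  obtain ⟨q₀, rfl⟩ : ∃ q₀ : ℤ, r = -q₀ := ⟨-r, by omega⟩
  rw [Category.comp_id]
  by_cases hq : a ≤ q₀ ∧ q₀ ≤ a + k
  · obtain ⟨i₀, rfl⟩ : ∃ i₀ : ℕ, q₀ = a + i₀ := ⟨(q₀ - a).toNat, by omega⟩
    unfold ηf
    rw [Preadditive.sum_comp, Preadditive.comp_sum, Finset.sum_eq_single i₀]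
    · rw [ηterm_congr T E F adj (tot T M F) m (a + i₀) (m + (a + i₀)) s rfl (by omega),
        ηterm_εhom, ← Category.assoc, ιt_πt_self, Category.id_comp]
    · intro i _ hi
      rw [ηterm_εhom, ← Category.assoc,
        ιt_πt_ne T M F (m + (a + i)) (-(a + i)) s (-(a + i₀)) m (by omega) hsr' (by omega),
        zero_comp]
    · intro h
      exact absurd (Finset.mem_range.2 (by omega)) h
  · exact (isZero_T_F T E F adj q₀ (hE q₀ (by omega)) _).eq_of_src _ _

include hadj hE in
/-- **The total adjunction**: termwise adjunctions `- ⊗ E^q ⊣ - ⊗ F^{-q}` compatible with the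
differentials induce an adjunction `- ⊗ E ⊣ - ⊗ F` on cochain complexes (`E` bounded). -/
noncomputable def totAdj :
    (T.map₂CochainComplex).flip.obj E ⊣ (T.map₂CochainComplex).flip.obj F :=
  Adjunction.mkOfUnitCounit
    { unit :=
        { app := fun N => ηhom T E F adj hadj a k hE N
          naturality := fun N N' f => by
            ext p
            exact ηf_nat T E F adj a k f p }
      counit :=
        { app := fun M => εhom T E F adj hadj M
          naturality := fun M M' g => by
            ext n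
            exact εf_nat T E F adj g n }
      left_triangle := by
        ext N n
        dsimp
        rw [Category.id_comp]
        exact left_tri_f T E F adj hadj a k hE N n
      right_triangle := by
        ext M m
        dsimp
        rw [Category.id_comp]
        exact right_tri_f T E F adj hadj a k hE M m }

end Groth.Agent.Lib.Helper5.Dual
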