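import Mathlib
import Groth.Agent.Lib.Helper5.Dual.DecompAdj
import Groth.Agent.Lib.Helper5.Dual.TotAdj5

/-!
# The dual of a bounded complex of finite free objects, and the adjunction `- ⊗ E ⊣ - ⊗ E^∨`
(helper5)
-/
set_option autoImplicit false
set_option linter.unusedSectionVars false
set_option linter.unusedVariables false
universe u
open CategoryTheory CategoryTheory.Limits HomologicalComplex

namespace Groth.Agent.Lib.Helper5.Dual

variable {A : Type*} [Category A] [Preadditive A] [HasZeroObject A]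
  (T : A ⥤ A ⥤ A) [T.Additive] [∀ X : A, (T.obj X).Additive]
  [∀ (K₁ K₂ : CochainComplex A ℤ), CochainComplex.HasMapBifunctor K₁ K₂ T]
  {U : A} (ρ : T.flip.obj U ≅ 𝟭 A) (hcomm : ∀ f g : U ⟶ U, f ≫ g = g ≫ f)
  (E : CochainComplex A ℤ) (n : ℤ → ℕ) (dec : ∀ q : ℤ, Decomp U (E.X q) (n q))

/-- the differential of the dual complex -/
def dualD (r : ℤ) : E.X (-r) ⟶ E.X (-(r + 1)) :=
  (r + 1).negOnePow • Decomp.tr (dec (-(r + 1))) (dec (-r)) (E.d (-(r + 1)) (-r))

include hcomm in
lemma dualD_sq (r : ℤ) : dualD E n dec r ≫ dualD E n dec (r + 1) = 0 := by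
  unfold dualD
  rw [Linear.units_smul_comp, Linear.comp_units_smul, ← Decomp.tr_comp hcomm, E.d_comp_d,
    Decomp.tr_zero, smul_zero, smul_zero]

/-- **the dual complex** `E^∨`, with `(E^∨)^r = E^{-r}` and transposed differentials -/
def dualCx : CochainComplex A ℤ :=
  CochainComplex.of (fun r => E.X (-r)) (dualD E n dec) (dualD_sq hcomm E n dec)

lemma dualCx_X (r : ℤ) : (dualCx hcomm E n dec).X r = E.X (-r) := rfl

/-- the identification `E^q ≅ (E^∨)^r` for `q = -r` -/
def castIso (r q : ℤ) (h : q = -r) : E.X q ≅ (dualCx hcomm E n dec).X r :=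
  E.XIsoOfEq h

lemma castIso_rfl (r : ℤ) : castIso hcomm E n dec r (-r) rfl = Iso.refl _ := by
  unfold castIso
  exact HomologicalComplex.XIsoOfEq_rfl E (-r)

lemma dualCx_d_self (r : ℤ) : (dualCx hcomm E n dec).d r (r + 1) = dualD E n dec r := by
  exact CochainComplex.of_d (fun r => E.X (-r)) (dualD E n dec) r

lemma dualCx_d_eq (r r' q₁ q₀ : ℤ) (hr : r + 1 = r') (h₁ : q₁ = -r) (h₀ : q₀ = -r') :
    (castIso hcomm E n dec r q₁ h₁).hom ≫ (dualCx hcomm E n dec).d r r' ≫
        (castIso hcomm E n dec r' q₀ h₀).inv =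
      (r + 1).negOnePow • Decomp.tr (dec q₀) (dec q₁) (E.d q₀ q₁) := by
  subst hr h₁ h₀
  rw [castIso_rfl, castIso_rfl, dualCx_d_self]
  erw [Category.id_comp, Category.comp_id]
  rfl

/-- the decomposition of `(E^∨)^{-q}` -/
def edec (q : ℤ) : Decomp U ((dualCx hcomm E n dec).X (-q)) (n q) :=
  (dec q).trans (castIso hcomm E n dec (-q) q (neg_neg q).symm)

/-- the termwise adjunctions -/
def termAdj (q : ℤ) : T.flip.obj (E.X q) ⊣ T.flip.obj ((dualCx hcomm E n dec).X (-q)) :=
  decompAdj T ρ (dec q) (edec hcomm E n dec q)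

lemma termAdj_compat (q : ℤ) (B C : A) (g : (T.obj B).obj (E.X (q + 1)) ⟶ C) :
    (termAdj T ρ hcomm E n dec q).homEquiv B C ((T.obj B).map (E.d q (q + 1)) ≫ g) =
      (termAdj T ρ hcomm E n dec (q + 1)).homEquiv B C g ≫
        (T.obj C).map (q.negOnePow • (dualCx hcomm E n dec).d (-(q + 1)) (-q)) := by
  unfold termAdj
  rw [decompAdj_homEquiv, decompAdj_homEquiv]
  apply dTo_transp
  intro i j
  have h := dualCx_d_eq hcomm E n dec (-(q + 1)) (-q) (q + 1) q (by omega) (by omega) (by omega)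
  show _ = ((dec (q + 1)).ι j ≫ (castIso hcomm E n dec (-(q + 1)) (q + 1) _).hom) ≫
    (q.negOnePow • (dualCx hcomm E n dec).d (-(q + 1)) (-q)) ≫
      (castIso hcomm E n dec (-q) q _).inv ≫ (dec q).π i
  simp only [Category.assoc, Linear.units_smul_comp, Linear.comp_units_smul]
  rw [reassoc_of% h, Linear.units_smul_comp, Linear.comp_units_smul, smul_smul,
    Decomp.tr_components]
  have hs : q.negOnePow * (-(q + 1) + 1).negOnePow = 1 := by
    have : -(q + 1) + 1 = -q := by omega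
    rw [this, Int.negOnePow_neg, ← Int.negOnePow_add, Int.negOnePow_even _ ⟨q, rfl⟩]
  rw [hs, one_smul]

/-- **the adjunction `- ⊗ E ⊣ - ⊗ E^∨`** for `E` a bounded complex of finite free objects -/
noncomputable def dualAdj (a : ℤ) (k : ℕ) (hE : ∀ q : ℤ, (q < a ∨ a + k < q) → IsZero (E.X q)) :
    (T.map₂CochainComplex).flip.obj E ⊣ (T.map₂CochainComplex).flip.obj (dualCx hcomm E n dec) :=
  totAdj T E (dualCx hcomm E n dec) (termAdj T ρ hcomm E n dec) (termAdj_compat T ρ hcomm E n dec)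
    a k hE

end Groth.Agent.Lib.Helper5.Dual
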