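import Mathlib
import Groth.Prelude.Def_DCoh4
import Groth.Agent.Lib.Helper5.Dual.DualCx
import Groth.Agent.Lib.Helper5.Perf.LocLift
import Groth.Agent.Lib.Helper5.Perf.PerfLocFree
import Groth.Agent.Lib.Helper5.KFlatSite2.TensorUnit

/-!
# The dual of a bounded complex of finite free modules on a scheme (helper5)
-/
set_option autoImplicit false
set_option linter.unusedSectionVars false
set_option linter.unusedVariables false
universe u
open CategoryTheory CategoryTheory.Limits AlgebraicGeometry HomologicalComplex Opposite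
attribute [local instance] HasDerivedCategory.standard

namespace Groth.Agent.Lib.Helper5.Dual

variable (W : Scheme.{u})

/-- the right unitor `- ⊗ O ≅ 𝟭` -/
noncomputable def rightUnit :
    (DCoh.tensorBi (X := W)).flip.obj (Coh.structureModule W) ≅ 𝟭 W.Modules :=
  Groth.Agent.Lib.Helper5.TensorUnit.unitIso W.sheaf

open Groth.Agent.Lib.Helper5.LocLift in
/-- endomorphisms of the structure sheaf commute -/
theorem structureModule_end_comm (f g : Coh.structureModule W ⟶ Coh.structureModule W) :
    f ≫ g = g ≫ f := by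
  apply unit_hom_ext
  show g.app ⊤ (f.app ⊤ (oneTop W)) = f.app ⊤ (g.app ⊤ (oneTop W))
  let a : Γ(W, ⊤) := f.app ⊤ (oneTop W)
  let b : Γ(W, ⊤) := g.app ⊤ (oneTop W)
  have ha : f.app ⊤ (oneTop W) = a • oneTop W := (mul_one a).symm
  have hb : g.app ⊤ (oneTop W) = b • oneTop W := (mul_one b).symm
  rw [ha, Scheme.Modules.Hom.app_smul, hb, Scheme.Modules.Hom.app_smul, ha, smul_smul, smul_smul,
    mul_comm]

/-- the standard decomposition of a free module -/
noncomputable def freeDecomp (n : ℕ) :
    Decomp (Coh.structureModule W) (FlatMod.freeMod W n) n := by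
  classical
  exact
  { ι := fun i => Sigma.ι (fun _ : Fin n => Coh.structureModule W) i
    π := fun i => Sigma.desc (fun j => if j = i then 𝟙 _ else 0)
    ι_π_self := fun i => by simp
    ι_π_ne := fun i j h => by simp [h]
    sum := by
      apply Sigma.hom_ext
      intro j
      rw [Preadditive.comp_sum, Finset.sum_eq_single j]
      · simp
      · intro i _ hi
        simp [hi.symm]
      · intro h; exact absurd (Finset.mem_univ j) h }

variable {W}

/-- **chain-level duality**: a bounded complex `P` of finite free modules has a dual complex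
`P^∨` (strictly perfect, with `(P^∨)^r ≅ P^{-r}`) such that `- ⊗ P ⊣ - ⊗ P^∨` on complexes -/
theorem exists_dual_adj (P : CochainComplex W.Modules ℤ) (a b : ℤ)
    (hab : DCoh.VanishesOutside P a b)
    (hfree : ∀ i : ℤ, ∃ n : ℕ, Nonempty (P.X i ≅ FlatMod.freeMod W n)) :
    ∃ Pd : CochainComplex W.Modules ℤ, DCoh.VanishesOutside Pd (-b) (-a) ∧
      DCoh.IsStrictlyPerfect Pd ∧
      Nonempty ((DCoh.tensorCx (X := W)).flip.obj P ⊣ (DCoh.tensorCx (X := W)).flip.obj Pd) := by
  choose n hn using hfree
  let dec : ∀ q : ℤ, Decomp (Coh.structureModule W) (P.X q) (n q) := fun q =>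
    (freeDecomp W (n q)).trans (hn q).some.symm
  let Pd := dualCx (structureModule_end_comm W) P n dec
  have hv : DCoh.VanishesOutside Pd (-b) (-a) := by
    intro i hi
    exact hab (-i) (by omega)
  have hfl : ∀ i : ℤ, FlatMod.IsFinLocFree (Pd.X i) := fun i =>
    Groth.Agent.Lib.Helper5.Shrink.isFinLocFree_of_iso_free (P.X (-i)) (n (-i)) (hn (-i)).some
  refine ⟨Pd, hv, ⟨⟨-b, -a, hv⟩, hfl⟩, ⟨?_⟩⟩
  exact dualAdj (DCoh.tensorBi (X := W)) (rightUnit W) (structureModule_end_comm W) P n dec a
    (b - a).toNat (fun q hq => hab q (by omega))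

end Groth.Agent.Lib.Helper5.Dual
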