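import Mathlib
import Groth.Agent.Lib.Helper5.Dual.SchFree
import Groth.Agent.Lib.Helper5.LTen.DerInv
import Groth.Agent.Lib.Helper5.LTen.LTenAll

/-!
# Local duality in the derived category: `- ⊗^L P ⊣ - ⊗^L P^∨` for `P` a bounded complex of
finite free modules (helper5)
-/
set_option autoImplicit false
set_option linter.unusedSectionVars false
set_option linter.unusedVariables false
set_option linter.style.haveILetI false
universe u
open CategoryTheory CategoryTheory.Limits AlgebraicGeometry HomologicalComplex Opposite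
attribute [local instance] HasDerivedCategory.standard

namespace Groth.Agent.Lib.Helper5.Dual

variable {W : Scheme.{u}}

/-- the square `Q ⋙ (- ⊗^L L) ≅ (- ⊗ L) ⋙ Q` for `L` K-flat -/
noncomputable def ltensorFac (L : CochainComplex W.Modules ℤ) (hL : DCoh.IsKFlat L)
    [DCoh.HasLTensorCx L] :
    (DCoh.tensorCx (X := W)).flip.obj L ⋙ DerivedCategory.Q ≅
      DerivedCategory.Q ⋙ DCoh.LTensorCx L :=
  haveI : IsIso ((DCoh.tensorCxQ L).totalLeftDerivedCounit DerivedCategory.Q
      (HomologicalComplex.quasiIso W.Modules (ComplexShape.up ℤ))) :=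
    Functor.isIso_of_isLeftDerivedFunctor_of_inverts (DCoh.LTensorCx L) _
      (Groth.Agent.Lib.Helper5.LTenDer.inverts_tensorCxQ L hL)
  (asIso ((DCoh.tensorCxQ L).totalLeftDerivedCounit DerivedCategory.Q
      (HomologicalComplex.quasiIso W.Modules (ComplexShape.up ℤ)))).symm

/-- an adjunction between the tensor functors of K-flat complexes descends to the derived
category -/
noncomputable def ltensorAdjOfAdj (P Pd : CochainComplex W.Modules ℤ) (hP : DCoh.IsKFlat P)
    (hPd : DCoh.IsKFlat Pd) [DCoh.HasLTensorCx P] [DCoh.HasLTensorCx Pd]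
    (adj : (DCoh.tensorCx (X := W)).flip.obj P ⊣ (DCoh.tensorCx (X := W)).flip.obj Pd) :
    DCoh.LTensorCx P ⊣ DCoh.LTensorCx Pd :=
  letI : CatCommSq ((DCoh.tensorCx (X := W)).flip.obj P) DerivedCategory.Q DerivedCategory.Q
      (DCoh.LTensorCx P) := ⟨ltensorFac P hP⟩
  letI : CatCommSq ((DCoh.tensorCx (X := W)).flip.obj Pd) DerivedCategory.Q DerivedCategory.Q
      (DCoh.LTensorCx Pd) := ⟨ltensorFac Pd hPd⟩
  adj.localization DerivedCategory.Q
    (HomologicalComplex.quasiIso W.Modules (ComplexShape.up ℤ)) DerivedCategory.Q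
    (HomologicalComplex.quasiIso W.Modules (ComplexShape.up ℤ)) (DCoh.LTensorCx P)
    (DCoh.LTensorCx Pd)

/-- **local duality**: for a bounded complex `P` of finite free modules there is a strictly
perfect complex `P^∨` with `- ⊗^L P ⊣ - ⊗^L P^∨` on `D(O_W)` -/
theorem exists_dual_ltensor_adj (P : CochainComplex W.Modules ℤ) (a b : ℤ)
    (hab : DCoh.VanishesOutside P a b)
    (hfree : ∀ i : ℤ, ∃ n : ℕ, Nonempty (P.X i ≅ FlatMod.freeMod W n)) [DCoh.HasLTensorCx P] :
    ∃ Pd : CochainComplex W.Modules ℤ, DCoh.VanishesOutside Pd (-b) (-a) ∧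
      DCoh.IsStrictlyPerfect Pd ∧
      ∀ [DCoh.HasLTensorCx Pd], Nonempty (DCoh.LTensorCx P ⊣ DCoh.LTensorCx Pd) := by
  obtain ⟨Pd, hv, hsp, ⟨adj⟩⟩ := exists_dual_adj P a b hab hfree
  refine ⟨Pd, hv, hsp, ?_⟩
  intro _
  have hPsp : DCoh.IsStrictlyPerfect P := ⟨⟨a, b, hab⟩, fun i => by
    obtain ⟨n, ⟨e⟩⟩ := hfree i
    exact Groth.Agent.Lib.Helper5.Shrink.isFinLocFree_of_iso_free _ n e⟩
  exact ⟨ltensorAdjOfAdj P Pd
    (Groth.Agent.Lib.Helper5.LTenDer.isKFlat_of_isStrictlyPerfect P hPsp)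
    (Groth.Agent.Lib.Helper5.LTenDer.isKFlat_of_isStrictlyPerfect Pd hsp) adj⟩

end Groth.Agent.Lib.Helper5.Dual
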