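import Mathlib
import Groth.Agent.Lib.Helper5.Dual.Derived
import Groth.Agent.Lib.Helper5.Perf.PerfLocFree
import Groth.Agent.Lib.Helper5.BC.LTenCongr
import Groth.Agent.Lib.Helper5.ShriekProj.Der
import Groth.Agent.Lib.Helper5.RHomQC.Local

/-!
# The local structure of `RHom(E, -)` for `E` perfect: locally it is `- ⊗^L P^∨` (helper5)
-/
set_option autoImplicit false
set_option linter.unusedSectionVars false
set_option linter.unusedVariables false
set_option linter.style.haveILetI false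
universe u
open CategoryTheory CategoryTheory.Limits AlgebraicGeometry HomologicalComplex Opposite
attribute [local instance] HasDerivedCategory.standard

namespace Groth.Agent.Lib.Helper5.Dual

open Groth.Agent.Lib.Helper5.ShriekProj

variable {X : Scheme.{u}}

/-- **local structure of `RHom(E, -)`**: for `E` perfect, every point has an open neighbourhood
`V` and a strictly perfect complex `P^∨` on `V` with `RHom(E, -)|_V ≅ (-)|_V ⊗^L P^∨` -/
theorem exists_local_dual (E : CochainComplex X.Modules ℤ) (hE : DCoh.IsPerfect (DCoh.toD X E))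
    [DCoh.HasLTensorCx E] [DCoh.HasRSheafHom E] (x : X) :
    ∃ V : X.Opens, x ∈ V ∧ ∃ (Pd : CochainComplex (V : Scheme.{u}).Modules ℤ) (a b : ℤ),
      DCoh.VanishesOutside Pd a b ∧ DCoh.IsStrictlyPerfect Pd ∧
      ∀ [DCoh.HasLTensorCx Pd],
        Nonempty (DCoh.RSheafHom E ⋙ DCoh.restrictD V.ι ≅ DCoh.restrictD V.ι ⋙ DCoh.LTensorCx Pd) := by
  obtain ⟨V, hxV, hV⟩ := (Groth.Agent.Lib.Helper5.Shrink.perfect_iff_locally_free _).1 hE x
  obtain ⟨P, a, b, hab, hfree, ⟨e⟩⟩ := hV E ⟨Iso.refl _⟩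
  haveI : DCoh.HasLTensorCx P := Groth.Agent.Lib.Helper5.LTenAll.hasLTensorCx _
  haveI : DCoh.HasLTensorCx (KV V E) := Groth.Agent.Lib.Helper5.LTenAll.hasLTensorCx _
  haveI : DCoh.HasRSheafHom (KV V E) := Groth.Agent.Lib.Helper5.RHomQC.hasRSheafHom_restrict V E
  obtain ⟨Pd, hv, hsp, hadj⟩ := exists_dual_ltensor_adj P a b hab hfree
  refine ⟨V, hxV, Pd, -b, -a, hv, hsp, ?_⟩
  intro _
  obtain ⟨adjP⟩ := hadj
  obtain ⟨i1⟩ := Groth.Agent.Lib.Helper5.LTenCongr.nonempty_ltensor_iso_of_iso e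
  let adj' : DCoh.LTensorCx (KV V E) ⊣ DCoh.LTensorCx Pd := adjP.ofNatIsoLeft i1.symm
  let i2 : DCoh.RSheafHom (KV V E) ≅ DCoh.LTensorCx Pd :=
    (DCoh.RSheafHomAdj (KV V E)).rightAdjointUniq adj'
  exact ⟨rhomRestrictIso V E ≪≫ Functor.isoWhiskerLeft (DCoh.restrictD V.ι) i2⟩

end Groth.Agent.Lib.Helper5.Dual
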