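import Mathlib
import Groth.Agent.Lib.Helper5.Dual.LocalRHom
import Groth.Agent.Lib.Helper5.RpushPerf.TenG4
import Groth.Agent.Lib.Helper5.KFlatG.Symm
import Groth.Agent.Lib.Helper5.KFlatSite2.Symm

/-!
# `Rf_* RHom(E, G)` is perfect for `E` perfect and `G` coherent, flat over the base, with proper
support (helper5)
-/
set_option autoImplicit false
set_option linter.unusedSectionVars false
set_option linter.unusedVariables false
set_option linter.style.haveILetI false
universe u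
open CategoryTheory CategoryTheory.Limits MonoidalCategory AlgebraicGeometry
attribute [local instance] HasDerivedCategory.standard

namespace Groth.Agent.Lib.Helper5.Dual

open Groth.Agent.Lib.Helper5.TorQC
  Groth.Agent.Lib.Helper5.DerSchTor Groth.Agent.Lib.Helper5.RpushSupp
  Groth.Agent.Lib.Helper5.LocalCoh Groth.Agent.Lib.Helper5.CohTen
  Groth.Agent.Lib.Helper5.RestrTen Groth.Agent.Lib.Helper5.RpushPerf
  Groth.Agent.Lib.Helper5.ShriekProj

variable {X S : Scheme.{u}}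

/-- `RHom(K, -)` preserves zero objects -/
theorem isZero_rsheafHom_obj (K : CochainComplex X.Modules ℤ) [DCoh.HasLTensorCx K]
    [DCoh.HasRSheafHom K] (Z : DCoh.D X) (hZ : IsZero Z) :
    IsZero ((DCoh.RSheafHom K).obj Z) := by
  rw [IsZero.iff_id_eq_zero]
  apply ((DCoh.RSheafHomAdj K).homEquiv _ _).symm.injective
  exact hZ.eq_of_tgt _ _

/-- the restriction of a module in degree `0` -/
noncomputable def restrictDInDIso (V : X.Opens) (G : X.Modules) :
    (DCoh.restrictD V.ι).obj (DCoh.inD X G) ≅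
      DerivedCategory.Q.obj (sCx ((Scheme.Modules.restrictFunctor V.ι).obj G)) :=
  (DCoh.restrictD V.ι).mapIso (Groth.Agent.Lib.Helper5.FlatTerms.toDSingleIso G).symm ≪≫
    (Scheme.Modules.restrictFunctor V.ι).mapDerivedCategoryFactors.app (sCx G) ≪≫
    DerivedCategory.Q.mapIso ((HomologicalComplex.singleMapHomologicalComplex
      (Scheme.Modules.restrictFunctor V.ι) (ComplexShape.up ℤ) 0).app G)

/-- the local structure of a complex representing `RHom(E, G)` -/
theorem exists_local_rhom_single (E : CochainComplex X.Modules ℤ)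
    (hE : DCoh.IsPerfect (DCoh.toD X E)) [DCoh.HasLTensorCx E] [DCoh.HasRSheafHom E]
    (G : X.Modules) (F₀ : CochainComplex X.Modules ℤ)
    (e₀ : DCoh.toD X F₀ ≅ (DCoh.RSheafHom E).obj (DCoh.inD X G)) (x : X) :
    ∃ V : X.Opens, x ∈ V ∧ ∃ (Pd : CochainComplex (V : Scheme.{u}).Modules ℤ) (a b : ℤ),
      DCoh.VanishesOutside Pd a b ∧ DCoh.IsStrictlyPerfect Pd ∧
      Nonempty (DerivedCategory.Q.obj ((DCoh.restrictCx V).obj F₀) ≅
        DerivedCategory.Q.obj ((DCoh.tensorCx.obj Pd).obj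
          (sCx ((Scheme.Modules.restrictFunctor V.ι).obj G)))) := by
  obtain ⟨V, hxV, Pd, a, b, hv, hsp, hiso⟩ := exists_local_dual E hE x
  haveI : DCoh.HasLTensorCx Pd := Groth.Agent.Lib.Helper5.LTenAll.hasLTensorCx _
  obtain ⟨i0⟩ := hiso
  refine ⟨V, hxV, Pd, a, b, hv, hsp, ⟨?_⟩⟩
  have hPdK : DCoh.IsKFlat Pd :=
    Groth.Agent.Lib.Helper5.LTenDer.isKFlat_of_isStrictlyPerfect Pd hsp
  exact ((Scheme.Modules.restrictFunctor V.ι).mapDerivedCategoryFactors.app F₀).symm ≪≫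
    (DCoh.restrictD V.ι).mapIso e₀ ≪≫ i0.app (DCoh.inD X G) ≪≫
    (DCoh.LTensorCx Pd).mapIso (restrictDInDIso V G) ≪≫
    Groth.Agent.Lib.Helper5.LTenDer.ltensorObjIso Pd hPdK _ ≪≫
    DerivedCategory.Q.mapIso (Groth.Agent.Lib.Helper5.KFlatG.braid
      (ModSite.tensorBi (V : Scheme.{u}).sheaf)
      (Groth.Agent.Lib.Helper5.KFlatSiteQ.flipIso (V : Scheme.{u}).sheaf) _ Pd)

/-- the cohomology sheaves of a complex representing `RHom(E, G)` are coherent -/
theorem isCoh_HD_rhom_single [IsLocallyNoetherian X] (E : CochainComplex X.Modules ℤ)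
    (hE : DCoh.IsPerfect (DCoh.toD X E)) [DCoh.HasLTensorCx E] [DCoh.HasRSheafHom E]
    (G : X.Modules) (hG : Coh.IsCoh G) (F₀ : CochainComplex X.Modules ℤ)
    (e₀ : DCoh.toD X F₀ ≅ (DCoh.RSheafHom E).obj (DCoh.inD X G)) (i : ℤ) :
    Coh.IsCoh (DCoh.HD (DCoh.toD X F₀) i) := by
  apply isCoh_of_locally
  intro x
  obtain ⟨V, hxV, Pd, a, b, hab, ⟨hbd, hfl⟩, ⟨e1⟩⟩ := exists_local_rhom_single E hE G F₀ e₀ x
  refine ⟨V, hxV, ?_⟩
  haveI : IsLocallyNoetherian (V : Scheme.{u}) := isLocallyNoetherian_of_isOpenImmersion V.ι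
  let GV := (Scheme.Modules.restrictFunctor V.ι).obj G
  have hPdk : DCoh.IsKFlat Pd :=
    Groth.Agent.Lib.Helper5.LTenDer.isKFlat_of_isStrictlyPerfect Pd ⟨hbd, hfl⟩
  have hGVc : Coh.IsCoh GV := Groth.Agent.Helper1.FinPush.isCoh_restrict V.ι G hG
  have hPdc : DCoh.IsCohD (DerivedCategory.Q.obj Pd) := fun j =>
    isCoh_of_iso (hdQIso Pd j).symm (isCoh_homology_of_finLocFree Pd hfl j)
  have hPdb : ∀ j : ℤ, b < j → IsZero (DCoh.HD (DerivedCategory.Q.obj Pd) j) := fun j hj =>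
    IsZero.of_iso (Groth.Agent.Lib.Helper5.NearFLF.isZero_homology_of_isZero _ j
      (hab j (Or.inr hj))) (hdQIso Pd j)
  have hGc : DCoh.IsCohD (DerivedCategory.Q.obj (sCx GV)) := isCohD_sCx GV hGVc
  have hGb : ∀ j : ℤ, 0 < j → IsZero (DCoh.HD (DerivedCategory.Q.obj (sCx GV)) j) := fun j hj =>
    isZero_HD_sCx GV j (by omega)
  have h2 := isCoh_homology_tensor_of_isKFlat Pd (sCx GV) hPdk hPdc b hPdb hGc 0 hGb i
  exact isCoh_of_iso ((hdQIso _ i).symm ≪≫ (DerivedCategory.homologyFunctor _ i).mapIso e1.symm ≪≫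
    (DerivedCategory.homologyFunctor _ i).mapIso
      ((Scheme.Modules.restrictFunctor V.ι).mapDerivedCategoryFactors.app F₀).symm ≪≫
    (hdRestrictDIso (DCoh.toD X F₀) V i).symm) h2

/-- the local models of a complex representing `RHom(E, G)` -/
theorem exists_locModel_rhom_single (f : X ⟶ S) (E : CochainComplex X.Modules ℤ)
    (hE : DCoh.IsPerfect (DCoh.toD X E)) [DCoh.HasLTensorCx E] [DCoh.HasRSheafHom E]
    (G : X.Modules) (hG : FlatMod.IsFlatOver f G) (F₀ : CochainComplex X.Modules ℤ)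
    (e₀ : DCoh.toD X F₀ ≅ (DCoh.RSheafHom E).obj (DCoh.inD X G)) (x : X) :
    ∃ (V : X.Opens) (a b : ℤ), x ∈ V ∧ LocModel f F₀ V a b := by
  obtain ⟨V, hxV, Pd, a, b, hab, ⟨hbd, hfl⟩, ⟨e1⟩⟩ := exists_local_rhom_single E hE G F₀ e₀ x
  refine ⟨V, a, b, hxV, TF Pd ((Scheme.Modules.restrictFunctor V.ι).obj G), ?_, ?_, ⟨?_⟩⟩
  · intro i hi
    exact (DCoh.tensorRightMod ((Scheme.Modules.restrictFunctor V.ι).obj G)).map_isZero (hab i hi)
  · intro i
    exact isFlatOver_tensor_of_isFinLocFree (V.ι ≫ f) (Pd.X i) _ (hfl i)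
      (isFlatOver_restrict f V G hG)
  · exact e1 ≪≫ DerivedCategory.Q.mapIso (tfIso Pd _).symm

/-- **`Rf_* RHom(E, G)` is perfect** for `E` perfect and `G` coherent, flat over the Noetherian
base `S`, with support proper over `S` -/
theorem isPerfect_rpush_rhom_single [IsNoetherian S] (f : X ⟶ S) [LocallyOfFiniteType f]
    (E : CochainComplex X.Modules ℤ) (hE : DCoh.IsPerfect (DCoh.toD X E))
    [DCoh.HasLTensorCx E] [DCoh.HasRSheafHom E] [DCoh.HasRpush f]
    (G : X.Modules) (hG : Coh.IsCoh G) (hflat : FlatMod.IsFlatOver f G)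
    (hsupp : ClSub.IsProperOver f (CohB1.support G)) :
    DCoh.IsPerfect ((DCoh.Rpush f).obj ((DCoh.RSheafHom E).obj (DCoh.inD X G))) := by
  haveI : IsLocallyNoetherian X := LocallyOfFiniteType.isLocallyNoetherian f
  let F₀ : CochainComplex X.Modules ℤ :=
    DerivedCategory.Q.objPreimage ((DCoh.RSheafHom E).obj (DCoh.inD X G))
  let e₀ : DCoh.toD X F₀ ≅ (DCoh.RSheafHom E).obj (DCoh.inD X G) :=
    DerivedCategory.Q.objObjPreimageIso _
  have hGcl : IsClosed (CohB1.support G) := hsupp.fst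
  let V₀ : X.Opens := ⟨(CohB1.support G)ᶜ, hGcl.isOpen_compl⟩
  have hGV₀ : IsZero ((Scheme.Modules.restrictFunctor V₀.ι).obj G) :=
    isZero_restrict_of_stalks G V₀ (fun x hx => not_not.1 hx)
  haveI : DCoh.HasLTensorCx (KV V₀ E) := Groth.Agent.Lib.Helper5.LTenAll.hasLTensorCx _
  haveI : DCoh.HasRSheafHom (KV V₀ E) := Groth.Agent.Lib.Helper5.RHomQC.hasRSheafHom_restrict V₀ E
  have hzero : IsZero (DerivedCategory.Q.obj ((DCoh.restrictCx V₀).obj F₀)) := by
    have hz1 : IsZero ((DCoh.restrictD V₀.ι).obj (DCoh.inD X G)) :=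
      IsZero.of_iso (DerivedCategory.Q.map_isZero
        ((HomologicalComplex.single _ (ComplexShape.up ℤ) 0).map_isZero hGV₀))
        (restrictDInDIso V₀ G)
    have hz2 := isZero_rsheafHom_obj (KV V₀ E) _ hz1
    exact IsZero.of_iso hz2
      (((Scheme.Modules.restrictFunctor V₀.ι).mapDerivedCategoryFactors.app F₀).symm ≪≫
        (DCoh.restrictD V₀.ι).mapIso e₀ ≪≫ (rhomRestrictIso V₀ E).app (DCoh.inD X G))
  obtain ⟨m, n, htor, hbdd⟩ := exists_hasTorAmplitude_of_locModel f F₀ (CohB1.support G)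
    (isCompact_of_isProperOver f _ hsupp)
    (fun x _ => exists_locModel_rhom_single f E hE G hflat F₀ e₀ x)
    (fun x hx => ⟨V₀, hx, hzero⟩)
  have hcoh : DCoh.IsCohD (DCoh.toD X F₀) := fun i => isCoh_HD_rhom_single E hE G hG F₀ e₀ i
  have hsub : ∀ i : ℤ, CohB1.support (DCoh.HD (DCoh.toD X F₀) i) ⊆ CohB1.support G := by
    intro i x hx
    by_contra hxG
    apply hx
    have hz : IsZero ((DCoh.HD (DCoh.toD X F₀) i).restrict V₀.ι) :=
      IsZero.of_iso ((DerivedCategory.homologyFunctor _ i).map_isZero hzero)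
        (hdRestrictDIso (DCoh.toD X F₀) V₀ i ≪≫
          (DerivedCategory.homologyFunctor _ i).mapIso
            ((Scheme.Modules.restrictFunctor V₀.ι).mapDerivedCategoryFactors.app F₀))
    exact subsingleton_stalk_of_isZero_restrict _ V₀ hz x hxG
  have h1 := isPerfect_rpush_lft f F₀ hcoh m n hbdd
    (fun i => isProperOver_of_subset f _ _
      (Groth.Agent.Helper1.FtGen.isClosed_support _ (hcoh i).2) (hsub i) hsupp) m n htor
  exact Groth.Agent.Lib.Helper5.PerfTri.isPerfect_of_iso ((DCoh.Rpush f).mapIso e₀) h1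

end Groth.Agent.Lib.Helper5.Dual
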